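import Groth.Agent.Lib.PureClosed13.Basic
import Groth.Agent.Lib.ModM1.LocFree
import Groth.Agent.Lib.ModM1.ClosedImm
import Groth.Agent.Lib.ModM1.Push
import Mathlib.RingTheory.Flat.LocallyFree

/-!
# Finite type flat modules and closed subsets stable under generalization
-/

universe u

open CategoryTheory Limits AlgebraicGeometry Opposite TopologicalSpace

set_option backward.isDefEq.respectTransparency false
set_option backward.isDefEq.respectTransparency.types false
set_option linter.style.haveILetI false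

noncomputable section

namespace Groth.Agent.PureClosed13

variable {X : Scheme.{u}} {M : X.Modules}

/-- The rank of the stalk. -/
def stalkRank (M : X.Modules) (x : X) : ℕ :=
  Module.finrank (X.presheaf.stalk x) (M.presheaf.stalk x)

theorem flat_sections (hM : Coh.IsQCoh M) (hflat : FlatMod.IsFlat M) {U : X.Opens}
    (hU : IsAffineOpen U) : Module.Flat Γ(X, U) Γ(M, U) := by
  haveI := hM
  have hmem : ∀ (P : Ideal Γ(X, U)) [P.IsMaximal],
      hU.fromSpec ⟨P, Ideal.IsMaximal.isPrime ‹_›⟩ ∈ U := fun P _ => by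
    rw [← SetLike.mem_coe, ← hU.range_fromSpec]; exact ⟨_, rfl⟩
  have hprime : ∀ (P : Ideal Γ(X, U)) [P.IsMaximal],
      (hU.primeIdealOf ⟨_, hmem P⟩).asIdeal = P := fun P _ => by
    have : hU.primeIdealOf ⟨_, hmem P⟩ = ⟨P, Ideal.IsMaximal.isPrime ‹_›⟩ :=
      hU.fromSpec.isOpenEmbedding.injective (hU.fromSpec_primeIdealOf _)
    rw [this]
  refine Module.flat_of_localized_maximal _ fun P _ => ?_
  let z : U := ⟨_, hmem P⟩
  letI := M1.stalkModule M z.2
  haveI : IsLocalizedModule P.primeCompl (M1.germₗ M z.2) := by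
    have := M1.isLocalizedModule_germ M hU z.2
    simp only [z, hprime P] at this
    exact this
  let := TopCat.Presheaf.algebra_section_stalk X.presheaf z
  haveI := hU.isLocalization_stalk z
  haveI : IsScalarTower Γ(X, U) (X.presheaf.stalk z.1) (M.presheaf.stalk z.1) :=
    IsScalarTower.of_algebraMap_smul fun _ _ => rfl
  haveI : Module.Flat Γ(X, U) (X.presheaf.stalk z.1) :=
    IsLocalization.flat (X.presheaf.stalk z.1) (hU.primeIdealOf z).asIdeal.primeCompl
  haveI : Module.Flat (X.presheaf.stalk z.1) (M.presheaf.stalk z.1) := hflat z.1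
  haveI : Module.Flat Γ(X, U) (M.presheaf.stalk z.1) :=
    Module.Flat.trans Γ(X, U) (X.presheaf.stalk z.1) (M.presheaf.stalk z.1)
  exact Module.Flat.of_linearEquiv (IsLocalizedModule.iso P.primeCompl (M1.germₗ M z.2))

theorem flat_stalk_of_flat_sections (hM : Coh.IsQCoh M) {U : X.Opens} (hU : IsAffineOpen U)
    [Module.Flat Γ(X, U) Γ(M, U)] {x : X} (hx : x ∈ U) : FlatMod.IsFlatAt M x := by
  haveI := hM
  letI := M1.stalkModule M hx
  haveI := M1.isLocalizedModule_germ M hU hx
  let := TopCat.Presheaf.algebra_section_stalk X.presheaf (⟨x, hx⟩ : U)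
  haveI := hU.isLocalization_stalk ⟨x, hx⟩
  haveI : IsScalarTower Γ(X, U) (X.presheaf.stalk x) (M.presheaf.stalk x) :=
    IsScalarTower.of_algebraMap_smul fun _ _ => rfl
  have hb : IsBaseChange (X.presheaf.stalk x) (M1.germₗ M hx) :=
    IsLocalizedModule.isBaseChange (hU.primeIdealOf ⟨x, hx⟩).asIdeal.primeCompl _ _
  exact Module.Flat.of_linearEquiv hb.equiv.symm

theorem stalkRank_eq (hM : Coh.IsQCoh M) (hFT : CohB1.IsFT M) (hflat : FlatMod.IsFlat M)
    {U : X.Opens} (hU : IsAffineOpen U) {x : X} (hx : x ∈ U) :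
    stalkRank M x = Module.rankAtStalk Γ(M, U) (hU.primeIdealOf ⟨x, hx⟩) := by
  haveI := hM
  letI := M1.stalkModule M hx
  haveI := M1.isLocalizedModule_germ M hU hx
  let := TopCat.Presheaf.algebra_section_stalk X.presheaf (⟨x, hx⟩ : U)
  haveI := hU.isLocalization_stalk ⟨x, hx⟩
  haveI : IsScalarTower Γ(X, U) (X.presheaf.stalk x) (M.presheaf.stalk x) :=
    IsScalarTower.of_algebraMap_smul fun _ _ => rfl
  haveI := M1.finite_stalk hM hFT x
  haveI : Module.Flat (X.presheaf.stalk x) (M.presheaf.stalk x) := hflat x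
  haveI : Module.Free (X.presheaf.stalk x) (M.presheaf.stalk x) := Module.free_of_flat_of_isLocalRing
  haveI := M1.finite_sections hM hFT hU
  haveI := flat_sections hM hflat hU
  have hb : IsBaseChange (X.presheaf.stalk x) (M1.germₗ M hx) :=
    IsLocalizedModule.isBaseChange (hU.primeIdealOf ⟨x, hx⟩).asIdeal.primeCompl _ _
  have h := Module.rankAtStalk_isBaseChange hb (IsLocalRing.closedPoint (X.presheaf.stalk x))
  rw [Module.rankAtStalk_eq_finrank_of_free] at h
  rw [hU.primeIdealOf_eq_map_closedPoint]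
  exact h

theorem stalkRank_eq_of_specializes (hM : Coh.IsQCoh M) (hFT : CohB1.IsFT M)
    (hflat : FlatMod.IsFlat M) {x y : X} (h : y ⤳ x) : stalkRank M y = stalkRank M x := by
  obtain ⟨U, hU, hx, -⟩ := exists_isAffineOpen_mem_and_subset (x := x) (U := ⊤) trivial
  have hy : y ∈ U := h.mem_open U.2 hx
  haveI := M1.finite_sections hM hFT hU
  haveI := flat_sections hM hflat hU
  rw [stalkRank_eq hM hFT hflat hU hx, stalkRank_eq hM hFT hflat hU hy]
  refine Module.rankAtStalk_eq_of_le_of_finite_of_flat _ ((PrimeSpectrum.le_iff_specializes _ _).2 ?_)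
  refine hU.fromSpec.isOpenEmbedding.isInducing.specializes_iff.1 ?_
  rw [hU.fromSpec_primeIdealOf, hU.fromSpec_primeIdealOf]
  exact h

theorem exists_nhd_rankAtStalk_le {R : Type u} [CommRing R] (N : Type u) [AddCommGroup N]
    [Module R N] [Module.Finite R N] [Module.Flat R N] (p : PrimeSpectrum R) :
    ∃ a, a ∉ p.asIdeal ∧ ∀ q : PrimeSpectrum R, a ∉ q.asIdeal →
      Module.rankAtStalk N q ≤ Module.rankAtStalk N p := by
  haveI : Nontrivial R := p.nontrivial
  let Rₚ := Localization.AtPrime p.asIdeal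
  let n := Module.rankAtStalk N p
  let f : (Fin n →₀ R) →ₗ[R] Fin n →₀ Rₚ := Finsupp.mapRange.linearMap (Algebra.linearMap R Rₚ)
  let g : N →ₗ[R] LocalizedModule.AtPrime p.asIdeal N := LocalizedModule.mkLinearMap p.asIdeal.primeCompl N
  haveI : Module.Free Rₚ (LocalizedModule.AtPrime p.asIdeal N) := Module.free_of_flat_of_isLocalRing
  obtain ⟨φ, -, -, hφps⟩ := Module.exists_localizedMap_surjective_of_surjective p.asIdeal.primeCompl f g
    ((Module.finBasis Rₚ (LocalizedModule.AtPrime p.asIdeal N)).repr.restrictScalars R).symm.surjective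
  obtain ⟨a, ha, hsub⟩ : ∃ a ∉ p.asIdeal,
      Subsingleton (LocalizedModule.Away a (N ⧸ LinearMap.range φ)) := by
    have h : Function.Surjective (LocalizedModule.map p.asIdeal.primeCompl φ) := by
      simpa [LocalizedModule.coe_map_eq f g] using hφps
    rw [φ.localizedMap_surjective_iff_subsingleton_localized_coker] at h
    exact LocalizedModule.exists_subsingleton_away p.asIdeal
  refine ⟨a, ha, fun q hq => ?_⟩
  have hle : Submonoid.powers a ≤ q.asIdeal.primeCompl :=
    Submonoid.powers_le.2 hq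
  haveI : Subsingleton (LocalizedModule q.asIdeal.primeCompl (N ⧸ LinearMap.range φ)) := by
    rw [LocalizedModule.subsingleton_iff] at hsub ⊢
    intro m
    obtain ⟨r, hr, e⟩ := hsub m
    exact ⟨r, hle hr, e⟩
  have hs : Function.Surjective (LocalizedModule.map q.asIdeal.primeCompl φ) := by
    rw [φ.localizedMap_surjective_iff_subsingleton_localized_coker]
    infer_instance
  refine (LinearMap.finrank_le_finrank_of_surjective hs).trans ?_
  change Module.rankAtStalk (Fin n →₀ R) q ≤ n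
  rw [Module.rankAtStalk_eq_finrank_of_free]
  simp

theorem isOpen_stalkRank_lt (hM : Coh.IsQCoh M) (hFT : CohB1.IsFT M) (hflat : FlatMod.IsFlat M)
    (m : ℕ) : IsOpen {x : X | stalkRank M x < m} := by
  refine isOpen_iff_forall_mem_open.2 fun x hx => ?_
  obtain ⟨U, hU, hxU, -⟩ := exists_isAffineOpen_mem_and_subset (x := x) (U := ⊤) trivial
  haveI := M1.finite_sections hM hFT hU
  haveI := flat_sections hM hflat hU
  obtain ⟨a, ha, hle⟩ := exists_nhd_rankAtStalk_le Γ(M, U) (hU.primeIdealOf ⟨x, hxU⟩)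
  refine ⟨X.basicOpen a, fun y hy => ?_, (X.basicOpen a).2,
    (M1.isUnit_germ_iff hU hxU a).2 ha |> (Scheme.mem_basicOpen X a x hxU).2⟩
  have hyU : y ∈ U := X.basicOpen_le a hy
  have hya : a ∉ (hU.primeIdealOf ⟨y, hyU⟩).asIdeal :=
    (M1.isUnit_germ_iff hU hyU a).1 ((Scheme.mem_basicOpen X a y hyU).1 hy)
  change stalkRank M x < m at hx
  change stalkRank M y < m
  rw [stalkRank_eq hM hFT hflat hU hxU] at hx
  rw [stalkRank_eq hM hFT hflat hU hyU]
  exact (hle _ hya).trans_lt hx

theorem isOpen_stalkRank_eq (hM : Coh.IsQCoh M) (hFT : CohB1.IsFT M) (hflat : FlatMod.IsFlat M)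
    (hX : ∀ Z : Set X, IsClosed Z → StableUnderGeneralization Z → IsOpen Z) (n : ℕ) :
    IsOpen {x : X | stalkRank M x = n} := by
  have hge : IsOpen {x : X | n ≤ stalkRank M x} := by
    refine hX _ ?_ fun x y h hx => ?_
    · rw [← isOpen_compl_iff]
      convert isOpen_stalkRank_lt hM hFT hflat n using 1
      ext; simp
    · exact le_of_le_of_eq hx (stalkRank_eq_of_specializes hM hFT hflat h).symm
  convert hge.inter (isOpen_stalkRank_lt hM hFT hflat (n + 1)) using 1
  ext x
  simp only [Set.mem_setOf_eq, Set.mem_inter_iff]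
  omega

theorem isFinLocFree_of_flat (hM : Coh.IsQCoh M) (hFT : CohB1.IsFT M) (hflat : FlatMod.IsFlat M)
    (hX : ∀ Z : Set X, IsClosed Z → StableUnderGeneralization Z → IsOpen Z) :
    FlatMod.IsFinLocFree M := by
  intro x
  haveI := hM
  obtain ⟨U, hU, hxU, hsub⟩ := exists_isAffineOpen_mem_and_subset (x := x)
    (U := ⟨_, isOpen_stalkRank_eq hM hFT hflat hX (stalkRank M x)⟩) (show _ = _ from rfl)
  haveI := M1.finite_sections hM hFT hU
  haveI := flat_sections hM hflat hU
  haveI := M1.isQCoh_fromSpec hM hU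
  let N := moduleSpecΓFunctor.obj (M.restrict hU.fromSpec)
  let eN : N ≃ₗ[Γ(X, U)] Γ(M, U) := M1.affineSecEquiv M hU
  haveI : Module.Finite Γ(X, U) N := Module.Finite.equiv eN.symm
  haveI : Module.Flat Γ(X, U) N := Module.Flat.of_linearEquiv eN
  have hrank : ∀ q : PrimeSpectrum Γ(X, U), Module.rankAtStalk N q = stalkRank M x := fun q => by
    have hq : hU.fromSpec q ∈ U := by rw [← SetLike.mem_coe, ← hU.range_fromSpec]; exact ⟨_, rfl⟩
    rw [Module.rankAtStalk_eq_of_equiv eN, show q = hU.primeIdealOf ⟨_, hq⟩ from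
      hU.fromSpec.isOpenEmbedding.injective (hU.fromSpec_primeIdealOf _).symm,
      ← stalkRank_eq hM hFT hflat hU hq]
    exact hsub hq
  let p := hU.primeIdealOf ⟨x, hxU⟩
  obtain ⟨r, hr, hfree⟩ := Module.Free.away_of_finite_of_flat_of_rankAtStalk_constant N p.asIdeal
    fun m _ => (hrank _).trans (hrank _).symm
  obtain ⟨I, hI, ⟨e⟩⟩ := M1.exists_fr_away N r
  let j := Spec.map (CommRingCat.ofHom (algebraMap Γ(X, U) (Localization (.powers r))))
  haveI : IsOpenImmersion j := IsOpenImmersion.of_isLocalization r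
  have hmem : p ∈ Set.range j := by
    change p ∈ Set.range (PrimeSpectrum.comap (algebraMap Γ(X, U) (Localization (.powers r))))
    rw [PrimeSpectrum.localization_away_comap_range (S := Localization.Away r) r]
    exact hr
  obtain ⟨z, hz⟩ := hmem
  let f : M.restrict hU.fromSpec ≅ tilde N :=
    (@asIso _ _ _ _ (M.restrict hU.fromSpec).fromTildeΓ
      (Scheme.Modules.isIso_fromTildeΓ_of_isQuasicoherent (R := Γ(X, U)) _)).symm
  obtain ⟨V, n, hV, hn⟩ := M1.exists_freeMod_of_openImmersion (j ≫ hU.fromSpec)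
    ((M1.restrictRestrictIso M hU.fromSpec j (j ≫ hU.fromSpec) rfl).symm ≪≫
      (Scheme.Modules.restrictFunctor j).mapIso f ≪≫
      (Scheme.Modules.restrictFunctorIsoPullback j).app (tilde N) ≪≫ e) z
  refine ⟨V, n, ?_, hn⟩
  rw [Scheme.Hom.comp_apply, hz] at hV
  have e : hU.fromSpec p = x := hU.fromSpec_primeIdealOf ⟨x, hxU⟩
  exact e ▸ hV

theorem isOpen_support (hM : FlatMod.IsFinLocFree M) : IsOpen (CohB1.support M) := by
  obtain ⟨hFP, hfree⟩ := (M1.isFinLocFree_iff M).1 hM
  have hQ := M1.isFP_isQCoh hFP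
  have hFT := M1.isFP_isFT hFP
  have hflat : FlatMod.IsFlat M := fun x => haveI := hfree x; Module.Flat.of_free
  refine isOpen_iff_forall_mem_open.2 fun x hx => ?_
  obtain ⟨U, hU, hxU, -⟩ := exists_isAffineOpen_mem_and_subset (x := x) (U := ⊤) trivial
  haveI := M1.finitePresentation_sections hFP hU
  haveI := flat_sections hQ hflat hU
  have hpos : ∀ {y : X}, y ∈ CohB1.support M ↔ 0 < stalkRank M y := fun {y} => by
    haveI := hfree y
    haveI := M1.finite_stalk hQ hFT y
    exact Iff.trans not_subsingleton_iff_nontrivial (Module.finrank_pos_iff_of_free _ _).symm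
  have ho : IsOpen (hU.primeIdealOf ⁻¹' {p | 0 < Module.rankAtStalk Γ(M, U) p}) :=
    ((Module.isLocallyConstant_rankAtStalk (R := Γ(X, U)) (M := Γ(M, U))) {n | 0 < n}).preimage
      hU.isoSpec.hom.continuous
  refine ⟨_, ?_, U.2.isOpenMap_subtype_val _ ho, ⟨x, hxU⟩, ?_, rfl⟩
  · rintro _ ⟨⟨y, hy⟩, hy', rfl⟩
    refine hpos.2 ?_
    rw [stalkRank_eq hQ hFT hflat hU hy]
    exact hy'
  · change 0 < Module.rankAtStalk Γ(M, U) _
    rw [← stalkRank_eq hQ hFT hflat hU hxU]
    exact hpos.1 hx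

theorem isOpen_of_hyp (hyp : ∀ F : X.Modules, Coh.IsQCoh F → CohB1.IsFT F → FlatMod.IsFlat F →
      FlatMod.IsFinLocFree F) (Z : Set X) (hZ : IsClosed Z) (hgen : StableUnderGeneralization Z) :
    IsOpen Z := by
  let I := flatIdeal hZ hgen
  haveI : Flat I.subschemeι := flat_flatIdeal hZ hgen
  let i := I.subschemeι
  let F : X.Modules := (Coh.push i).obj (Coh.structureModule I.subscheme)
  have hF : Coh.IsQCoh F := M1.isQCoh_push i (M1.isQCoh_structureModule _)
  have happ : ∀ U : X.Opens, IsAffineOpen U → (i.app U).hom.Flat := fun U hU => by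
    rw [Scheme.Hom.app_eq_appLE]
    exact HasRingHomProperty.appLE @Flat i inferInstance ⟨U, hU⟩ ⟨_, hU.preimage i⟩ le_rfl
  have hFT : CohB1.IsFT F := M1.isFT_of_finite_sections hF fun U hU =>
    ⟨{(1 : Γ(I.subscheme, i ⁻¹ᵁ U))}, top_le_iff.1 fun s _ => by
      obtain ⟨r, hr⟩ := i.app_surjective U hU s
      rw [Finset.coe_singleton, Submodule.mem_span_singleton]
      exact ⟨r, (mul_one (i.app U r : Γ(I.subscheme, i ⁻¹ᵁ U))).trans hr⟩⟩
  have hflat : FlatMod.IsFlat F := fun x => by
    obtain ⟨U, hU, hxU, -⟩ := exists_isAffineOpen_mem_and_subset (x := x) (U := ⊤) trivial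
    haveI : Module.Flat Γ(X, U) Γ(F, U) := happ U hU
    exact flat_stalk_of_flat_sections hF hU hxU
  have hsupp : CohB1.support F = Z := by
    have hr : Set.range i = Z := by
      rw [Scheme.IdealSheafData.range_subschemeι]
      exact support_flatIdeal hZ hgen
    ext x
    rw [← hr]
    constructor
    · intro hx
      by_contra hxr
      exact hx ⟨fun a b => (M1.eq_zero_stalk_push i _ hxr a).trans (M1.eq_zero_stalk_push i _ hxr b).symm⟩
    · rintro ⟨z, rfl⟩ hsub
      have h := @Subsingleton.elim _ hsub (F.presheaf.germ ⊤ (i z) trivial (1 : Γ(I.subscheme, ⊤))) 0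
      rw [← map_zero (F.presheaf.germ ⊤ (i z) trivial).hom] at h
      obtain ⟨V, hzV, a, b, e⟩ := F.presheaf.germ_eq (U := ⊤) (V := ⊤) (i z) trivial trivial _ _ h
      have e' : (1 : Γ(I.subscheme, i ⁻¹ᵁ V)) = 0 :=
        (map_one (I.subscheme.presheaf.map (homOfLE (le_top : i ⁻¹ᵁ V ≤ ⊤)).op).hom).symm.trans
          (e.trans (map_zero _))
      have := congrArg (I.subscheme.presheaf.germ (i ⁻¹ᵁ V) z hzV) e'
      rw [map_one, map_zero] at this
      exact one_ne_zero this
  rw [← hsupp]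
  exact isOpen_support (hyp F hF hFT hflat)

theorem isFinLocFree_iff_closed :
    (∀ F : X.Modules, Coh.IsQCoh F → CohB1.IsFT F → FlatMod.IsFlat F → FlatMod.IsFinLocFree F) ↔
      ∀ Z : Set X, IsClosed Z → StableUnderGeneralization Z → IsOpen Z :=
  ⟨isOpen_of_hyp, fun hX F hF hFT hflat => isFinLocFree_of_flat hF hFT hflat hX⟩

end Groth.Agent.PureClosed13
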