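import Mathlib.RingTheory.Ideal.Pure
import Mathlib.AlgebraicGeometry.Morphisms.Flat
import Mathlib.AlgebraicGeometry.Morphisms.UniversallyOpen
import Mathlib.AlgebraicGeometry.IdealSheaf.Subscheme
import Mathlib.AlgebraicGeometry.Morphisms.ClosedImmersion

/-!
# Flat closed subschemes and closed subsets stable under generalization
-/

universe u

open CategoryTheory AlgebraicGeometry TopologicalSpace

set_option backward.isDefEq.respectTransparency false
set_option backward.isDefEq.respectTransparency.types false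
set_option linter.style.haveILetI false

noncomputable section

namespace Groth.Agent.PureClosed13

section Ring

variable {R : Type*} [CommRing R]

/-- The elements killed by an element of `1 + J`. -/
def pureIdeal (J : Ideal R) : Ideal R where
  carrier := {x | ∃ j ∈ J, x = x * j}
  zero_mem' := ⟨0, J.zero_mem, by simp⟩
  add_mem' := by
    rintro a b ⟨i, hi, ha⟩ ⟨j, hj, hb⟩
    refine ⟨i + j - i * j, J.sub_mem (J.add_mem hi hj) (J.mul_mem_left _ hj), ?_⟩
    linear_combination (1 - j) * ha + (1 - i) * hb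
  smul_mem' := by
    rintro c x ⟨j, hj, hx⟩
    exact ⟨j, hj, by simp only [smul_eq_mul]; linear_combination c * hx⟩

theorem pure_of_forall_exists_eq_mul {I : Ideal R} (h : ∀ x ∈ I, ∃ y ∈ I, x = x * y) : I.Pure := by
  refine Ideal.Pure.of_inf_eq_mul I fun J _ => le_antisymm (fun x hx => ?_) Ideal.mul_le_inf
  obtain ⟨y, hy, hxy⟩ := h x hx.1
  rw [hxy, mul_comm x y]
  exact Ideal.mul_mem_mul hy hx.2

variable {J : Ideal R} (hJ : ∀ p q : PrimeSpectrum R, q ≤ p → J ≤ p.asIdeal → J ≤ q.asIdeal)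

include hJ in
theorem pow_mem_pureIdeal {j : R} (hj : j ∈ J) : ∃ n, j ^ n ∈ pureIdeal J := by
  by_contra! H
  let M : Submonoid R :=
    { carrier := {r | ∃ n : ℕ, ∃ i ∈ J, r = j ^ n * (1 - i)}
      one_mem' := ⟨0, 0, J.zero_mem, by simp⟩
      mul_mem' := by
        rintro _ _ ⟨n, i, hi, rfl⟩ ⟨m, k, hk, rfl⟩
        exact ⟨n + m, i + k - i * k, J.sub_mem (J.add_mem hi hk) (J.mul_mem_left _ hk), by ring⟩ }
  obtain ⟨q, hq, -, hqM⟩ := Ideal.exists_le_prime_disjoint (⊥ : Ideal R) M (by
    rw [Set.disjoint_left]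
    rintro r (rfl : r = 0) ⟨n, i, hi, e⟩
    exact H n ⟨i, hi, by linear_combination -e⟩)
  have hne : q ⊔ J ≠ ⊤ := by
    intro e
    obtain ⟨a, ha, i, hi, he⟩ := Submodule.mem_sup.1 ((Ideal.eq_top_iff_one _).1 e)
    exact Set.disjoint_left.1 hqM ha ⟨0, i, hi, by linear_combination he⟩
  obtain ⟨p, hp, hle⟩ := Ideal.exists_le_maximal _ hne
  have := hJ ⟨p, hp.isPrime⟩ ⟨q, hq⟩ (le_sup_left.trans hle) (le_sup_right.trans hle)
  exact Set.disjoint_left.1 hqM (this hj) ⟨1, 0, J.zero_mem, by simp⟩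

include hJ in
theorem pure_pureIdeal : (pureIdeal J).Pure := by
  refine pure_of_forall_exists_eq_mul fun x ⟨j, hj, hx⟩ => ?_
  obtain ⟨n, hn⟩ := pow_mem_pureIdeal hJ hj
  refine ⟨j ^ n, hn, ?_⟩
  clear hn
  induction n with
  | zero => simp
  | succ n ih => rw [pow_succ, ← mul_assoc, ← ih, ← hx]

include hJ in
theorem zeroLocus_pureIdeal :
    PrimeSpectrum.zeroLocus (pureIdeal J : Set R) = PrimeSpectrum.zeroLocus (J : Set R) := by
  refine Set.Subset.antisymm (fun p hp => ?_) (fun p hp x hx => ?_)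
  · intro j hj
    obtain ⟨n, hn⟩ := pow_mem_pureIdeal hJ hj
    exact p.isPrime.mem_of_pow_mem n (hp hn)
  · obtain ⟨j, hj, e⟩ := hx
    show x ∈ p.asIdeal
    rw [e]
    exact Ideal.mul_mem_left _ _ (hp hj)

theorem pure_map {S : Type*} [CommRing S] (f : R →+* S) {I : Ideal R} [I.Pure] : (I.map f).Pure := by
  refine pure_of_forall_exists_eq_mul fun x hx => ?_
  change x ∈ Submodule.span S (f '' I) at hx
  induction hx using Submodule.span_induction with
  | mem x h =>
    obtain ⟨a, ha, rfl⟩ := h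
    obtain ⟨b, hb, e⟩ := Ideal.exists_eq_mul_of_pure (I := I) ha
    exact ⟨f b, Ideal.mem_map_of_mem f hb, by rw [← map_mul, ← e]⟩
  | zero => exact ⟨0, zero_mem _, by simp⟩
  | add a b _ _ ha hb =>
    obtain ⟨i, hi, ha⟩ := ha
    obtain ⟨j, hj, hb⟩ := hb
    exact ⟨i + j - i * j, sub_mem (add_mem hi hj) (Ideal.mul_mem_left _ _ hj),
      by linear_combination (1 - j) * ha + (1 - i) * hb⟩
  | smul c a _ ha =>
    obtain ⟨j, hj, ha⟩ := ha
    exact ⟨j, hj, by simp only [smul_eq_mul]; linear_combination c * ha⟩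

end Ring

variable {X : Scheme.{u}}

/-- The trace of a subset on an affine chart. -/
abbrev pre (Z : Set X) (U : X.affineOpens) : Set (PrimeSpectrum Γ(X, U.1)) := U.2.fromSpec ⁻¹' Z

theorem zeroLocus_ideal (I : X.IdealSheafData) (U : X.affineOpens) :
    PrimeSpectrum.zeroLocus (I.ideal U : Set Γ(X, U.1)) = pre (I.support : Set X) U := by
  ext p
  have hmem : U.2.fromSpec p ∈ (U.1 : Set X) := by
    rw [← U.2.range_fromSpec]; exact ⟨p, rfl⟩
  constructor
  · intro hp
    have : U.2.fromSpec p ∈ X.zeroLocus (U := U.1) (I.ideal U : Set Γ(X, U.1)) ∩ U.1 := by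
      rw [← U.2.fromSpec_image_zeroLocus]; exact ⟨p, hp, rfl⟩
    rw [← Scheme.IdealSheafData.coe_support_inter] at this
    exact this.1
  · intro hp
    have : U.2.fromSpec p ∈ (I.support : Set X) ∩ U.1 := ⟨hp, hmem⟩
    rw [Scheme.IdealSheafData.coe_support_inter, ← U.2.fromSpec_image_zeroLocus] at this
    obtain ⟨q, hq, e⟩ := this
    rwa [← U.2.fromSpec.isOpenEmbedding.injective e]

theorem pure_ideal (I : X.IdealSheafData) [Flat I.subschemeι] (U : X.affineOpens) : (I.ideal U).Pure := by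
  have hV : IsAffineOpen (I.subschemeι ⁻¹ᵁ U.1) := U.2.preimage I.subschemeι
  have h : (I.subschemeι.app U).hom.Flat := by
    rw [Scheme.Hom.app_eq_appLE]
    exact HasRingHomProperty.appLE @Flat I.subschemeι inferInstance U ⟨_, hV⟩ le_rfl
  algebraize [(I.subschemeι.app U).hom]
  rw [← Scheme.IdealSheafData.ker_subschemeι_app]
  exact Module.Flat.of_linearEquiv (Ideal.quotientKerAlgEquivOfSurjective
    (f := Algebra.ofId Γ(X, U.1) Γ(I.subscheme, I.subschemeι ⁻¹ᵁ U.1))
    (I.subschemeι_app_surjective U)).toLinearEquiv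

theorem stableUnderGeneralization_support (I : X.IdealSheafData) [Flat I.subschemeι] :
    StableUnderGeneralization (I.support : Set X) := by
  rw [← Scheme.IdealSheafData.range_subschemeι]
  exact (Flat.generalizingMap I.subschemeι).stableUnderGeneralization_range

variable {Z : Set X} (hZ : IsClosed Z) (hgen : StableUnderGeneralization Z)

/-- The ideal of the flat subscheme on an affine open. -/
abbrev chartIdeal (Z : Set X) (U : X.affineOpens) : Ideal Γ(X, U.1) :=
  pureIdeal (PrimeSpectrum.vanishingIdeal (pre Z U))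

include hZ in
theorem zeroLocus_vanishing (U : X.affineOpens) :
    PrimeSpectrum.zeroLocus (PrimeSpectrum.vanishingIdeal (pre Z U) : Set Γ(X, U.1)) = pre Z U := by
  rw [PrimeSpectrum.zeroLocus_vanishingIdeal_eq_closure]
  exact (hZ.preimage U.2.fromSpec.continuous).closure_eq

include hZ hgen in
theorem gen_chart (U : X.affineOpens) (p q : PrimeSpectrum Γ(X, U.1)) (hle : q ≤ p)
    (hp : PrimeSpectrum.vanishingIdeal (pre Z U) ≤ p.asIdeal) :
    PrimeSpectrum.vanishingIdeal (pre Z U) ≤ q.asIdeal := by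
  have hp' : p ∈ pre Z U := by rw [← zeroLocus_vanishing hZ U]; exact hp
  have hq' : q ∈ pre Z U :=
    hgen (((PrimeSpectrum.le_iff_specializes q p).1 hle).map U.2.fromSpec.continuous) hp'
  rw [← zeroLocus_vanishing hZ U] at hq'
  exact hq'

include hZ hgen in
theorem zeroLocus_chartIdeal (U : X.affineOpens) :
    PrimeSpectrum.zeroLocus (chartIdeal Z U : Set Γ(X, U.1)) = pre Z U :=
  (zeroLocus_pureIdeal (gen_chart hZ hgen U)).trans (zeroLocus_vanishing hZ U)

/-- The flat closed subscheme structure. -/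
def flatIdeal : X.IdealSheafData :=
  Scheme.IdealSheafData.mkOfMemSupportIff (chartIdeal Z)
    (fun U f => by
      haveI := pure_pureIdeal (gen_chart hZ hgen U)
      haveI := pure_pureIdeal (gen_chart hZ hgen (X.affineBasicOpen f))
      let r : Γ(X, U.1) →+* Γ(X, (X.affineBasicOpen f).1) :=
        (X.presheaf.map (homOfLE <| X.basicOpen_le f).op).hom
      haveI : ((chartIdeal Z U).map r).Pure := pure_map r
      change (chartIdeal Z U).map r = chartIdeal Z (X.affineBasicOpen f)
      refine Ideal.zeroLocus_inj_of_pure.1 ?_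
      rw [zeroLocus_chartIdeal hZ hgen (X.affineBasicOpen f), Ideal.map, PrimeSpectrum.zeroLocus_span,
        ← PrimeSpectrum.preimage_comap_zeroLocus, zeroLocus_chartIdeal hZ hgen U]
      ext p
      have e := U.2.map_fromSpec (X.affineBasicOpen f).2 (homOfLE <| X.basicOpen_le f).op
      change U.2.fromSpec (PrimeSpectrum.comap r p) ∈ Z ↔ (X.affineBasicOpen f).2.fromSpec p ∈ Z
      rw [← e]
      rfl)
    Z
    (fun U x hx => by
      obtain ⟨p, rfl⟩ : x ∈ Set.range U.2.fromSpec := by rw [U.2.range_fromSpec]; exact hx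
      have e : p ∈ PrimeSpectrum.zeroLocus (chartIdeal Z U : Set Γ(X, U.1)) ↔ U.2.fromSpec p ∈ Z := by
        rw [zeroLocus_chartIdeal hZ hgen]; rfl
      rw [← e]
      constructor
      · intro hp
        have : U.2.fromSpec p ∈ X.zeroLocus (U := U.1) (chartIdeal Z U : Set Γ(X, U.1)) ∩ U.1 := by
          rw [← U.2.fromSpec_image_zeroLocus]; exact ⟨p, hp, rfl⟩
        exact this.1
      · intro hp
        have : U.2.fromSpec p ∈ X.zeroLocus (U := U.1) (chartIdeal Z U : Set Γ(X, U.1)) ∩ U.1 := ⟨hp, hx⟩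
        rw [← U.2.fromSpec_image_zeroLocus] at this
        obtain ⟨q, hq, he⟩ := this
        rwa [← U.2.fromSpec.isOpenEmbedding.injective he])

theorem support_flatIdeal : ((flatIdeal hZ hgen).support : Set X) = Z := rfl

theorem flat_flatIdeal : Flat (flatIdeal hZ hgen).subschemeι := by
  let I := flatIdeal hZ hgen
  refine IsZariskiLocalAtSource.of_openCover I.subschemeCover.openCover fun U => ?_
  change Flat (I.subschemeCover.f U ≫ I.subschemeι)
  rw [Scheme.IdealSheafData.subschemeCover_map_subschemeι]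
  haveI : (I.ideal U).Pure := pure_pureIdeal (gen_chart hZ hgen U)
  haveI : Flat (Spec.map (CommRingCat.ofHom (Ideal.Quotient.mk (I.ideal U)))) := by
    rw [Flat.SpecMap_iff]
    exact RingHom.flat_algebraMap_iff.2 ‹(I.ideal U).Pure›
  delta Scheme.IdealSheafData.glueDataObjι
  infer_instance

/-- Factorization through a flat closed subscheme. -/
theorem exists_lift (I : X.IdealSheafData) [Flat I.subschemeι] {Y : Scheme.{u}} (g : Y ⟶ X)
    (hg : Set.range g.base ⊆ (I.support : Set X)) :
    ∃ g' : Y ⟶ I.subscheme, g' ≫ I.subschemeι = g := by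
  refine ⟨IsClosedImmersion.lift I.subschemeι g ?_, IsClosedImmersion.lift_fac _ _ _⟩
  rw [Scheme.IdealSheafData.ker_subschemeι]
  refine Scheme.IdealSheafData.le_ofIdeals_iff.2 fun U s hs => RingHom.mem_ker.2 ?_
  haveI := pure_ideal I U
  obtain ⟨t, ht, hst⟩ := Ideal.exists_eq_mul_of_pure (I := I.ideal U) hs
  refine TopCat.Presheaf.section_ext Y.sheaf _ _ _ fun y hy => ?_
  rw [map_zero]
  change Y.presheaf.germ (g ⁻¹ᵁ U.1) y hy (g.app U.1 s) = 0
  rw [← Scheme.Hom.germ_stalkMap_apply g U.1 y hy]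
  have hu : IsUnit (X.presheaf.germ U.1 (g y) hy (1 - t)) := by
    rw [← Scheme.mem_basicOpen X _ _ hy]
    by_contra h1
    have h2 : g y ∉ X.basicOpen t := by
      have := (Scheme.IdealSheafData.coe_support_inter I U).le ⟨hg ⟨y, rfl⟩, hy⟩
      exact (Scheme.mem_zeroLocus_iff _ _ _).1 this.1 t ht
    rw [Scheme.mem_basicOpen X _ _ hy] at h1 h2
    have := IsLocalRing.nonunits_add (show _ ∈ nonunits _ from h1) (show _ ∈ nonunits _ from h2)
    rw [← map_add, sub_add_cancel, map_one] at this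
    exact this isUnit_one
  have h0 : X.presheaf.germ U.1 (g y) hy s = 0 := by
    refine hu.mul_left_eq_zero.1 ?_
    rw [← map_mul, mul_sub, mul_one, ← hst, sub_self, map_zero]
  rw [h0, map_zero]

end Groth.Agent.PureClosed13
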